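import Mathlib
import Groth.Prelude.Def_CE

/-!
Cartan–Eilenberg resolutions of bounded below complexes.
-/

universe v u

open CategoryTheory CategoryTheory.Limits HomologicalComplex
open scoped ZeroObject

namespace Groth.Agent.CERes

variable {A : Type u} [Category.{v} A] [Abelian A]

theorem injective_of_retract {X Y : A} [Injective Y] (i : X ⟶ Y) (r : Y ⟶ X) (h : i ≫ r = 𝟙 X) : Injective X :=
  ⟨fun g f _ => ⟨Injective.factorThru (g ≫ i) f ≫ r, by rw [Injective.comp_factorThru_assoc]; simp [h]⟩⟩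

theorem exists_emb [EnoughInjectives A] (X : A) :
    ∃ (I : A) (ι : X ⟶ I), Injective I ∧ Mono ι ∧ (IsZero X → IsZero I) := by
  by_cases h : IsZero X
  · exact ⟨X, 𝟙 X, h.injective, inferInstance, fun h => h⟩
  · exact ⟨Injective.under X, Injective.ι X, inferInstance, inferInstance, fun h' => absurd h' h⟩

theorem exists_step [EnoughInjectives A] (K : CochainComplex A ℤ) (n : ℤ) [K.IsStrictlyGE n] :
    ∃ (J : CochainComplex A ℤ) (f : K ⟶ J), J.IsStrictlyGE n ∧ (∀ p, Injective (J.X p)) ∧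
      (∀ p, Mono (f.f p)) ∧ (∀ p, Mono (homologyMap f p)) ∧ (∀ p, Injective (J.cycles p)) ∧
      ∀ p, Injective (J.homology p) := by
  classical
  choose N ι hN hι hN0 using fun p => exists_emb (K.X p)
  choose E u hE hu hE0 using fun p => exists_emb (K.homology p)
  have hKz : ∀ p, p < n → IsZero (K.X p) := fun p hp => K.isZero_of_isStrictlyGE n p hp
  have hT : ∀ q : ℤ, ∃ (T : A) (τ : T ⟶ N (q + 1)) (a : K.X q ⟶ T), Injective T ∧
      (IsIso τ ∨ IsZero T) ∧ a ≫ τ = K.d q (q + 1) ≫ ι (q + 1) ∧ (q < n → IsZero T) := fun q => by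
    by_cases h : q < n
    · exact ⟨0, 0, 0, (isZero_zero A).injective, Or.inr (isZero_zero A), (hKz q h).eq_of_src _ _,
        fun _ => isZero_zero A⟩
    · exact ⟨N (q + 1), 𝟙 _, _, hN _, Or.inl inferInstance, Category.comp_id _, fun h' => absurd h' h⟩
  choose T τ a hTi hτ ha hT0 using hT
  haveI := hE
  haveI := hN
  haveI := hTi
  haveI := hu
  let X : ℤ → A := fun p => E p ⊞ (T p ⊞ N p)
  let d0 : ∀ p, X p ⟶ X (p + 1) := fun p => biprod.snd ≫ biprod.fst ≫ τ p ≫ biprod.inr ≫ biprod.inr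
  have sq : ∀ p, d0 p ≫ d0 (p + 1) = 0 := fun p => by simp [d0]
  let J := CochainComplex.of X d0 sq
  have hd : ∀ p, J.d p (p + 1) = d0 p := CochainComplex.of_d X d0
  let e : ∀ p, K.X p ⟶ E p := fun p => Injective.factorThru (K.homologyπ p ≫ u p) (K.iCycles p)
  have he : ∀ p, K.iCycles p ≫ e p = K.homologyπ p ≫ u p := fun p => Injective.comp_factorThru _ _
  have hde : ∀ i j, K.d i j ≫ e j = 0 := fun i j => by
    rw [← K.toCycles_i i j, Category.assoc, he, toCycles_comp_homologyπ_assoc, zero_comp]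
  let fp : ∀ p, K.X p ⟶ X p := fun p => biprod.lift (e p) (biprod.lift (a p) (ι p))
  let f : K ⟶ J :=
    { f := fp
      comm' := by
        rintro i j rfl
        show fp i ≫ J.d i (i + 1) = K.d i (i + 1) ≫ fp (i + 1)
        rw [hd]
        apply biprod.hom_ext
        · simp [fp, d0, X, hde]
        · apply biprod.hom_ext
          · have h0 : K.d i (i + 1) ≫ a (i + 1) = 0 := by
              rcases hτ (i + 1) with h | h
              · rw [← cancel_mono (τ (i + 1)), Category.assoc, ha, K.d_comp_d_assoc]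
                simp
              · exact h.eq_of_tgt _ _
            simp [fp, d0, X, h0]
          · simp [fp, d0, X, ha] }
  have hfst : ∀ i j, J.d i j ≫ (biprod.fst : J.X j ⟶ E j) = 0 := fun i j => by
    by_cases h : i + 1 = j
    · subst h
      rw [hd]
      simp [d0, X]
    · rw [J.shape i j h, zero_comp]
  let r : ∀ p, J.homology p ⟶ E p := fun p =>
    J.homologyι p ≫ J.descOpcycles (biprod.fst : J.X p ⟶ E p) (p - 1) (by simp) (hfst _ _)
  have hr : ∀ p, J.homologyπ p ≫ r p = J.iCycles p ≫ (biprod.fst : J.X p ⟶ E p) := fun p => by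
    simp [r]
  have hmid : ∀ p, J.iCycles p ≫ (biprod.snd : J.X p ⟶ T p ⊞ N p) ≫ biprod.fst = 0 := fun p => by
    rcases hτ p with h | h
    · have h1 : J.iCycles p ≫ d0 p = 0 := by rw [← hd]; exact J.iCycles_d p (p + 1)
      have h2 := congrArg (fun t => t ≫ (biprod.snd : X (p + 1) ⟶ T (p + 1) ⊞ N (p + 1)) ≫ biprod.snd) h1
      simp [d0, X] at h2
      rw [← cancel_mono (τ p), zero_comp, Category.assoc, Category.assoc]
      exact h2
    · exact h.eq_of_tgt _ _
  refine ⟨J, f, ?_, fun p => ?_, fun p => ?_, fun p => ?_, fun p => ?_, fun p => ?_⟩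
  · refine (CochainComplex.isStrictlyGE_iff _ _).2 fun p hp => ?_
    have hH : IsZero (K.homology p) := (hKz p hp).of_mono (K.iCycles p) |> fun h => h.of_epi (K.homologyπ p)
    exact (biprod_isZero_iff _ _).2 ⟨hE0 p hH, (biprod_isZero_iff _ _).2 ⟨hT0 p hp, hN0 p (hKz p hp)⟩⟩
  · exact (inferInstance : Injective (E p ⊞ (T p ⊞ N p)))
  · haveI := hι p
    have hh : fp p ≫ (biprod.snd : X p ⟶ T p ⊞ N p) ≫ biprod.snd = ι p := by simp [fp, X]
    exact mono_of_mono_fac hh
  · have hm : homologyMap f p ≫ r p = u p := by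
      rw [← cancel_epi (K.homologyπ p), homologyπ_naturality_assoc, hr, cyclesMap_i_assoc, ← he]
      congr 1
      show fp p ≫ (biprod.fst : X p ⟶ E p) = e p
      simp [fp]
    exact mono_of_mono_fac hm
  · let idem : X p ⟶ X p := biprod.fst ≫ biprod.inl + biprod.snd ≫ biprod.snd ≫ biprod.inr ≫ biprod.inr
    have h0 : idem ≫ J.d p (p + 1) = 0 := by rw [hd]; simp [idem, d0, X]
    haveI : Injective (J.X p) := (inferInstance : Injective (E p ⊞ (T p ⊞ N p)))
    refine injective_of_retract (J.iCycles p) (J.liftCycles idem (p + 1) (by simp) h0) ?_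
    rw [← cancel_mono (J.iCycles p), Category.assoc, liftCycles_i, Category.id_comp]
    show J.iCycles p ≫ (biprod.fst ≫ biprod.inl +
      biprod.snd ≫ biprod.snd ≫ biprod.inr ≫ biprod.inr : X p ⟶ X p) = _
    apply biprod.hom_ext
    · simp [X, Preadditive.comp_add, Preadditive.add_comp]
    · apply biprod.hom_ext
      · simp [X, Preadditive.comp_add, Preadditive.add_comp]
        exact (hmid p).symm
      · simp [X, Preadditive.comp_add, Preadditive.add_comp]
  · obtain ⟨q, rfl⟩ : ∃ q, p = q + 1 := ⟨p - 1, by omega⟩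
    haveI : Injective (J.X (q + 1)) := (inferInstance : Injective (E (q + 1) ⊞ (T (q + 1) ⊞ N (q + 1))))
    rcases hτ q with hq | hq
    · have h0 : (biprod.inl : E (q + 1) ⟶ X (q + 1)) ≫ J.d (q + 1) (q + 1 + 1) = 0 := by rw [hd]; simp [d0, X]
      refine injective_of_retract (r (q + 1))
        (J.liftCycles (biprod.inl : E (q + 1) ⟶ J.X (q + 1)) (q + 1 + 1) (by simp) h0 ≫ J.homologyπ _) ?_
      rw [← cancel_epi (J.homologyπ (q + 1)), reassoc_of% (hr (q + 1)), Category.comp_id]
      let w : J.cycles (q + 1) ⟶ J.X q :=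
        J.iCycles (q + 1) ≫ (biprod.snd : J.X (q + 1) ⟶ T (q + 1) ⊞ N (q + 1)) ≫ biprod.snd ≫ inv (τ q) ≫
          biprod.inl ≫ biprod.inr
      have hz : J.iCycles (q + 1) ≫ (biprod.fst : J.X (q + 1) ⟶ E (q + 1)) ≫
          J.liftCycles (biprod.inl : E (q + 1) ⟶ J.X (q + 1)) (q + 1 + 1) (by simp) h0 +
          w ≫ J.toCycles q (q + 1) = 𝟙 _ := by
        rw [← cancel_mono (J.iCycles (q + 1)), Preadditive.add_comp, Category.id_comp]
        simp only [Category.assoc, liftCycles_i, toCycles_i, hd]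
        apply biprod.hom_ext
        · simp [w, d0, X, Preadditive.add_comp]
        · apply biprod.hom_ext
          · simp [w, d0, X, Preadditive.add_comp]
            exact (hmid (q + 1)).symm
          · simp [w, d0, X, Preadditive.add_comp]
      have := congrArg (· ≫ J.homologyπ (q + 1)) hz
      simp only [Preadditive.add_comp, Category.assoc, toCycles_comp_homologyπ, comp_zero, add_zero,
        Category.id_comp] at this
      exact this
    · have h0 : J.d q (q + 1) = 0 := by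
        rw [hd]
        show biprod.snd ≫ biprod.fst ≫ τ q ≫ _ = 0
        rw [hq.eq_of_src (τ q) 0]
        simp
      haveI := J.isIso_homologyπ q (q + 1) (by simp) h0
      haveI : Injective (J.cycles (q + 1)) := by
        let idem : X (q + 1) ⟶ X (q + 1) :=
          biprod.fst ≫ biprod.inl + biprod.snd ≫ biprod.snd ≫ biprod.inr ≫ biprod.inr
        have h0 : idem ≫ J.d (q + 1) (q + 1 + 1) = 0 := by rw [hd]; simp [idem, d0, X]
        refine injective_of_retract (J.iCycles (q + 1)) (J.liftCycles idem (q + 1 + 1) (by simp) h0) ?_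
        rw [← cancel_mono (J.iCycles (q + 1)), Category.assoc, liftCycles_i, Category.id_comp]
        show J.iCycles (q + 1) ≫ (biprod.fst ≫ biprod.inl +
          biprod.snd ≫ biprod.snd ≫ biprod.inr ≫ biprod.inr : X (q + 1) ⟶ X (q + 1)) = _
        apply biprod.hom_ext
        · simp [X, Preadditive.comp_add, Preadditive.add_comp]
        · apply biprod.hom_ext
          · simp [X, Preadditive.comp_add, Preadditive.add_comp]
            exact (hmid (q + 1)).symm
          · simp [X, Preadditive.comp_add, Preadditive.add_comp]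
      exact Injective.of_iso (asIso (J.homologyπ (q + 1))) ‹_›

variable {S : ShortComplex (CochainComplex A ℤ)} (hS : S.ShortExact)

include hS in
theorem shortExact_map_homology (hm : ∀ p, Mono (homologyMap S.f p)) (p : ℤ) :
    (S.map (homologyFunctor A (ComplexShape.up ℤ) p)).ShortExact where
  exact := hS.homology_exact₂ p
  mono_f := hm p
  epi_g := by
    haveI := hm (p + 1)
    refine (hS.homology_exact₃ p (p + 1) (by simp)).epi_f ?_
    show hS.δ p (p + 1) _ = 0
    rw [← cancel_mono (homologyMap S.f (p + 1)), hS.δ_comp, zero_comp]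

include hS in
theorem shortExact_map_cycles (hm : ∀ p, Mono (homologyMap S.f p)) (p : ℤ) :
    (S.map (cyclesFunctor A (ComplexShape.up ℤ) p)).ShortExact := by
  obtain ⟨q, rfl⟩ : ∃ q, p = q + 1 := ⟨p - 1, by omega⟩
  have hX := fun i => hS.map_of_exact (eval A (ComplexShape.up ℤ) i)
  have hmf : ∀ i, Mono (S.f.f i) := fun i => (hX i).mono_f
  have heg : ∀ i, Epi (S.g.f i) := fun i => (hX i).epi_g
  haveI := hmf (q + 1)
  haveI := hmf (q + 1 + 1)
  refine { exact := ?_, mono_f := ?_, epi_g := ?_ }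
  · rw [ShortComplex.exact_iff_exact_up_to_refinements]
    intro W z hz
    change W ⟶ S.X₂.cycles (q + 1) at z
    change z ≫ cyclesMap S.g (q + 1) = 0 at hz
    have h1 : (z ≫ S.X₂.iCycles (q + 1)) ≫ S.g.f (q + 1) = 0 := by
      rw [Category.assoc, ← cyclesMap_i, reassoc_of% hz, zero_comp]
    obtain ⟨W', π, _, k, hk⟩ := (hX (q + 1)).exact.exact_up_to_refinements (z ≫ S.X₂.iCycles (q + 1)) h1
    change W' ⟶ S.X₁.X (q + 1) at k
    change π ≫ z ≫ S.X₂.iCycles (q + 1) = k ≫ S.f.f (q + 1) at hk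
    refine ⟨W', π, inferInstance, S.X₁.liftCycles k (q + 1 + 1) (by simp) ?_, ?_⟩
    · rw [← cancel_mono (S.f.f (q + 1 + 1)), Category.assoc, ← S.f.comm, ← reassoc_of% hk]
      simp
    · show π ≫ z = _ ≫ cyclesMap S.f (q + 1)
      rw [← cancel_mono (S.X₂.iCycles (q + 1))]
      simp [hk]
  · haveI : Mono (cyclesMap S.f (q + 1)) := by
      haveI : Mono (S.X₁.iCycles (q + 1) ≫ S.f.f (q + 1)) := mono_comp _ _
      exact mono_of_mono_fac (cyclesMap_i S.f (q + 1))
    exact ‹_›
  · show Epi (cyclesMap S.g (q + 1))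
    rw [epi_iff_surjective_up_to_refinements]
    intro W c
    haveI : Epi (homologyMap S.g (q + 1)) := (shortExact_map_homology hS hm (q + 1)).epi_g
    obtain ⟨W₁, π₁, _, x, hx, y, hy⟩ := (epi_homologyMap_iff_up_to_refinements S.g q (q + 1) (q + 1 + 1)
      (by simp) (by simp)).1 inferInstance (c ≫ S.X₃.iCycles (q + 1)) (by simp)
    haveI := heg q
    obtain ⟨W₂, π₂, _, j, hj⟩ := surjective_up_to_refinements_of_epi (S.g.f q) y
    refine ⟨W₂, π₂ ≫ π₁, inferInstance,
      S.X₂.liftCycles (π₂ ≫ x + j ≫ S.X₂.d q (q + 1)) (q + 1 + 1) (by simp)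
        (by simp [Preadditive.add_comp, hx]), ?_⟩
    rw [← cancel_mono (S.X₃.iCycles (q + 1))]
    simp only [Category.assoc, cyclesMap_i, liftCycles_i_assoc, hy, Preadditive.comp_add,
      Preadditive.add_comp, reassoc_of% hj, Hom.comm]

/-- the columns of an iterated resolution -/
theorem isInjResolutionVia_of_steps (Ks J : ℕ → CochainComplex A ℤ) (f : ∀ k, Ks k ⟶ J k)
    (g : ∀ k, J k ⟶ Ks (k + 1)) (w : ∀ k, f k ≫ g k = 0) (I : CochainComplex (CochainComplex A ℤ) ℤ)
    (eI : ∀ k : ℕ, I.X (k : ℤ) ≅ J k) (hI0 : ∀ q : ℤ, q < 0 → IsZero (I.X q))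
    (hId : ∀ k : ℕ, (eI k).inv ≫ I.d (k : ℤ) ((k + 1 : ℕ) : ℤ) ≫ (eI (k + 1)).hom = g k ≫ f (k + 1))
    (F : CochainComplex A ℤ ⥤ A) [F.PreservesZeroMorphisms]
    (hF : ∀ k, ((ShortComplex.mk (f k) (g k) (w k)).map F).ShortExact) (hinj : ∀ k, Injective (F.obj (J k))) :
    CE.IsInjResolutionVia ((F.mapHomologicalComplex (ComplexShape.up ℤ)).obj I) (F.obj (Ks 0))
      (F.map (f 0 ≫ (eI 0).inv)) := by
  haveI hm : ∀ k, Mono (F.map (f k)) := fun k => (hF k).mono_f
  haveI he : ∀ k, Epi (F.map (g k)) := fun k => (hF k).epi_g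
  let C := (F.mapHomologicalComplex (ComplexShape.up ℤ)).obj I
  have hd : ∀ k : ℕ, F.map (I.d (k : ℤ) ((k + 1 : ℕ) : ℤ)) =
      F.map (eI k).hom ≫ (F.map (g k) ≫ F.map (f (k + 1))) ≫ F.map (eI (k + 1)).inv := fun k => by
    rw [← F.map_comp, ← F.map_comp, ← F.map_comp, ← hId k]
    simp
  have hker : ∀ (k : ℕ) {W : A} (x : W ⟶ F.obj (J k)), x ≫ F.map (g k) ≫ F.map (f (k + 1)) = 0 →
      ∃ y, y ≫ F.map (f k) = x := fun k W x hx => by
    haveI : Mono ((ShortComplex.mk (f k) (g k) (w k)).map F).f := hm k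
    have h0 : x ≫ F.map (g k) = 0 := by
      haveI := hm (k + 1)
      rw [← cancel_mono (F.map (f (k + 1))), zero_comp, Category.assoc]
      exact hx
    exact ⟨(hF k).exact.lift x h0, (hF k).exact.lift_f x h0⟩
  have h01 : F.map (f 0 ≫ (eI 0).inv) ≫ C.d 0 1 = 0 := by
    show F.map (f 0 ≫ (eI 0).inv) ≫ F.map (I.d ((0 : ℕ) : ℤ) ((0 + 1 : ℕ) : ℤ)) = 0
    rw [hd, F.map_comp]
    simp only [Category.assoc, ← F.map_comp_assoc (eI 0).inv, Iso.inv_hom_id, F.map_id, Category.id_comp,
      ← F.map_comp_assoc (f 0), w, F.map_zero, zero_comp]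
  refine ⟨h01, (CochainComplex.isStrictlyGE_iff _ _).2 fun q hq => F.map_isZero (hI0 q hq), fun q => ?_,
    fun q hq => ?_, by rw [F.map_comp]; exact @mono_comp _ _ _ _ _ _ (hm 0) _ (F.mapIso (eI 0).symm).isIso_hom.mono_of_iso, ?_⟩
  · rcases q with k | k
    · exact Injective.of_iso (F.mapIso (eI k)).symm (hinj k)
    · exact (F.map_isZero (hI0 _ (by omega))).injective
  · rcases q with (_ | k) | k
    · exact absurd rfl hq
    · show C.ExactAt ((k + 1 : ℕ) : ℤ)
      rw [exactAt_iff' _ (k : ℤ) ((k + 1 : ℕ) : ℤ) ((k + 1 + 1 : ℕ) : ℤ) (by simp) (by simp),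
        ShortComplex.exact_iff_exact_up_to_refinements]
      intro W x hx
      change W ⟶ F.obj (I.X ((k + 1 : ℕ) : ℤ)) at x
      change x ≫ F.map (I.d ((k + 1 : ℕ) : ℤ) ((k + 1 + 1 : ℕ) : ℤ)) = 0 at hx
      rw [hd] at hx
      obtain ⟨y, hy⟩ := hker (k + 1) (x ≫ F.map (eI (k + 1)).hom) (by
        rw [← cancel_mono (F.map (eI (k + 1 + 1)).inv)]
        simpa using hx)
      obtain ⟨W', π, _, z, hz⟩ := surjective_up_to_refinements_of_epi (F.map (g k)) y
      refine ⟨W', π, inferInstance, z ≫ F.map (eI k).inv, ?_⟩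
      show π ≫ x = (z ≫ F.map (eI k).inv) ≫ F.map (I.d (k : ℤ) ((k + 1 : ℕ) : ℤ))
      rw [hd, Category.assoc, ← F.map_comp_assoc, Iso.inv_hom_id, F.map_id, Category.id_comp, Category.assoc,
        ← reassoc_of% hz, reassoc_of% hy, ← F.map_comp, Iso.hom_inv_id, F.map_id, Category.comp_id]
    · rw [exactAt_iff' _ (Int.negSucc k - 1) (Int.negSucc k) (Int.negSucc k + 1) (by simp) (by simp)]
      exact ShortComplex.exact_of_isZero_X₂ _ (F.map_isZero (hI0 _ (by omega)))
  · rw [ShortComplex.exact_iff_exact_up_to_refinements]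
    intro W x hx
    change W ⟶ F.obj (I.X ((0 : ℕ) : ℤ)) at x
    change x ≫ F.map (I.d ((0 : ℕ) : ℤ) ((0 + 1 : ℕ) : ℤ)) = 0 at hx
    rw [hd] at hx
    obtain ⟨y, hy⟩ := hker 0 (x ≫ F.map (eI 0).hom) (by
      rw [← cancel_mono (F.map (eI (0 + 1)).inv)]
      simpa using hx)
    refine ⟨W, 𝟙 W, inferInstance, y, ?_⟩
    show 𝟙 W ≫ x = y ≫ F.map (f 0 ≫ (eI 0).inv)
    rw [F.map_comp, reassoc_of% hy, ← F.map_comp, Iso.hom_inv_id, F.map_id, Category.comp_id, Category.id_comp]

theorem exists_cartanEilenberg [EnoughInjectives A] (K : CochainComplex A ℤ) (n : ℤ) [K.IsStrictlyGE n] :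
    ∃ (I : CochainComplex (CochainComplex A ℤ) ℤ) (ε : K ⟶ I.X 0) (_ : ε ≫ I.d 0 1 = 0),
      (∃ i : ℤ, ∀ p q : ℤ, p < i → IsZero ((I.X q).X p)) ∧
      (∀ p : ℤ, CE.IsInjResolutionVia (((eval A (ComplexShape.up ℤ) p).mapHomologicalComplex
        (ComplexShape.up ℤ)).obj I) (K.X p) (ε.f p)) ∧
      (∀ p : ℤ, CE.IsInjResolutionVia (((cyclesFunctor A (ComplexShape.up ℤ) p).mapHomologicalComplex
        (ComplexShape.up ℤ)).obj I) (K.cycles p) (cyclesMap ε p)) ∧
      (∀ p : ℤ, CE.IsInjResolutionVia (((homologyFunctor A (ComplexShape.up ℤ) p).mapHomologicalComplex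
        (ComplexShape.up ℤ)).obj I) (K.homology p) (homologyMap ε p)) := by
  classical
  let St := { L : CochainComplex A ℤ // L.IsStrictlyGE n }
  have hstep := fun L : St =>
    haveI := L.2
    exists_step L.1 n
  choose J f hJn hJX hfm hfH hJc hJh using hstep
  let next : St → St := fun L =>
    ⟨cokernel (f L), (CochainComplex.isStrictlyGE_iff _ _).2 fun p hp => by
      haveI : Epi ((cokernel.π (f L)).f p) := inferInstanceAs (Epi ((eval A (ComplexShape.up ℤ) p).map _))
      haveI := hJn L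
      exact ((J L).isZero_of_isStrictlyGE n p hp).of_epi ((cokernel.π (f L)).f p)⟩
  let s : ℕ → St := fun k => Nat.rec (motive := fun _ => St) ⟨K, inferInstance⟩ (fun _ L => next L) k
  let Ks : ℕ → CochainComplex A ℤ := fun k => (s k).1
  let Js : ℕ → CochainComplex A ℤ := fun k => J (s k)
  let fs : ∀ k, Ks k ⟶ Js k := fun k => f (s k)
  let gs : ∀ k, Js k ⟶ Ks (k + 1) := fun k => cokernel.π (f (s k))
  have w : ∀ k, fs k ≫ gs k = 0 := fun k => cokernel.condition _
  have hS : ∀ k, (ShortComplex.mk (fs k) (gs k) (w k)).ShortExact := fun k => by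
    haveI : Mono (fs k) := HomologicalComplex.mono_of_mono_f _ (hfm (s k))
    haveI : Epi (gs k) := inferInstanceAs (Epi (cokernel.π _))
    exact { exact := ShortComplex.exact_of_g_is_cokernel _ (cokernelIsCokernel _) }
  let X : ℤ → CochainComplex A ℤ := fun q => match q with
    | Int.ofNat k => Js k
    | Int.negSucc _ => 0
  let d : ∀ q : ℤ, X q ⟶ X (q + 1) := fun q => match q with
    | Int.ofNat k => gs k ≫ fs (k + 1)
    | Int.negSucc _ => 0
  have sq : ∀ q : ℤ, d q ≫ d (q + 1) = 0 := fun q => match q with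
    | Int.ofNat k => by
      show (gs k ≫ fs (k + 1)) ≫ gs (k + 1) ≫ fs (k + 1 + 1) = 0
      simp [reassoc_of% (w (k + 1))]
    | Int.negSucc _ => zero_comp
  let I := CochainComplex.of X d sq
  let eI : ∀ k : ℕ, I.X (k : ℤ) ≅ Js k := fun k => Iso.refl _
  have hId : ∀ k : ℕ, (eI k).inv ≫ I.d (k : ℤ) ((k + 1 : ℕ) : ℤ) ≫ (eI (k + 1)).hom = gs k ≫ fs (k + 1) :=
    fun k => (Category.id_comp _).trans ((Category.comp_id _).trans (CochainComplex.of_d X d (k : ℤ)))
  have hI0 : ∀ q : ℤ, q < 0 → IsZero (I.X q) := fun q hq => match q, hq with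
    | Int.negSucc _, _ => isZero_zero _
    | Int.ofNat k, h => absurd h (by simp)
  refine ⟨I, fs 0, ?_, ⟨n, fun p q hp => ?_⟩, fun p => ?_, fun p => ?_, fun p => ?_⟩
  · refine (congrArg (fs 0 ≫ ·) (CochainComplex.of_d X d (0 : ℤ))).trans ?_
    show fs 0 ≫ gs 0 ≫ fs 1 = 0
    rw [reassoc_of% (w 0), zero_comp]
  · rcases q with k | k
    · haveI := hJn (s k)
      exact (Js k).isZero_of_isStrictlyGE n p hp
    · exact (eval A (ComplexShape.up ℤ) p).map_isZero (isZero_zero _)
  · have h := isInjResolutionVia_of_steps Ks Js fs gs w I eI hI0 hId (eval A (ComplexShape.up ℤ) p)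
      (fun k => (hS k).map_of_exact _) (fun k => hJX _ p)
    have e : fs 0 ≫ (eI 0).inv = fs 0 := Category.comp_id _
    rw [e] at h
    exact h
  · have h := isInjResolutionVia_of_steps Ks Js fs gs w I eI hI0 hId (cyclesFunctor A (ComplexShape.up ℤ) p)
      (fun k => shortExact_map_cycles (hS k) (hfH _) p) (fun k => hJc _ p)
    have e : fs 0 ≫ (eI 0).inv = fs 0 := Category.comp_id _
    rw [e] at h
    exact h
  · have h := isInjResolutionVia_of_steps Ks Js fs gs w I eI hI0 hId (homologyFunctor A (ComplexShape.up ℤ) p)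
      (fun k => shortExact_map_homology (hS k) (hfH _) p) (fun k => hJh _ p)
    have e : fs 0 ≫ (eI 0).inv = fs 0 := Category.comp_id _
    rw [e] at h
    exact h

end Groth.Agent.CERes
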